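import Groth.Agent.L03.BlowAcyc.MultSurj
import Groth.Agent.L03.BlowAcyc.PointGen
import Groth.Agent.L13.PointBlow.Twist
import Groth.Agent.L16.ProperFinite

/-!
# Multiplication of sections of powers of a globally generated invertible module
-/

set_option autoImplicit false
set_option linter.style.haveILetI false
set_option linter.unusedSectionVars false
set_option backward.isDefEq.respectTransparency false

universe u

open CategoryTheory CategoryTheory.Limits AlgebraicGeometry TopologicalSpace Opposite
open Groth.L00.Tensor (tensorMap tensorIso tensorComm tensorAssoc tensorUnitLeft tensorUnitRight tensorRightF)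
open Groth.L16.CohLinear (hmap hmap_comp overLin)
open Groth.L21.RR (e0 e0_hmap oneSec app_homOfSection_one)
open Groth.L22.Reg (Generates mu prodH0)

noncomputable section

namespace Groth.L16.MulSurj

variable (k : Type u) [Field k] {X : Scheme.{u}} [X.Over (Spec (CommRingCat.of k))]

/-- A globally generated module is the quotient of a free module on a basis of its sections. -/
theorem exists_epi_basis {L : X.Modules} [Module.Finite k (Coh.HH X L 0)]
    (hg : Curv2.IsGloballyGenerated L) :
    ∃ φ : Fin (Module.finrank k (Coh.HH X L 0)) → (Coh.structureModule X ⟶ L), Epi (Sigma.desc φ) := by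
  let B := Module.finBasis k (Coh.HH X L 0)
  let φ := fun i => Groth.L16.homOfSection L (e0 L (B i))
  refine ⟨φ, ?_⟩
  obtain ⟨ι, p, hp⟩ := hg
  refine Preadditive.epi_of_cancel_zero _ fun {M} g hg' => ?_
  have h0 : overLin k (hmap g 0) = 0 := B.ext fun i => by
    apply (e0 M).injective
    show e0 M (hmap g 0 (B i)) = e0 M 0
    rw [e0_hmap, map_zero, ← app_homOfSection_one (e0 L (B i))]
    have := congrArg (fun q => (Sigma.ι (fun _ => Coh.structureModule X) i ≫ q).app ⊤ (oneSec X)) hg'
    simp only [Sigma.ι_desc_assoc, comp_zero] at this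
    exact this
  have hall : ∀ ψ : Coh.structureModule X ⟶ L, ψ ≫ g = 0 := fun ψ => Groth.L21.RR.hom_ext_one (by
    show g.app ⊤ (ψ.app ⊤ (oneSec X)) = (0 : Coh.structureModule X ⟶ M).app ⊤ (oneSec X)
    rw [← (e0 L).apply_symm_apply (ψ.app ⊤ (oneSec X)), ← e0_hmap,
      show hmap g 0 ((e0 L).symm (ψ.app ⊤ (oneSec X))) = 0 from LinearMap.congr_fun h0 _, map_zero]
    rfl)
  rw [← cancel_epi p, comp_zero]
  refine Cofan.IsColimit.hom_ext (SheafOfModules.isColimitFreeCofan ι) _ _ fun i => ?_
  rw [SheafOfModules.freeCofan_inj, ← Category.assoc, comp_zero]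
  exact hall _

/-- Maps from the inverse without common zero, as many as there are independent sections. -/
theorem exists_generates {L M : X.Modules} (hM : PicF.IsInvertible M) (e : CohB1.tensorMod L M ≅ Coh.structureModule X)
    [Module.Finite k (Coh.HH X L 0)] (hg : Curv2.IsGloballyGenerated L) :
    ∃ σs : List (M ⟶ Coh.structureModule X), σs.length = Module.finrank k (Coh.HH X L 0) ∧ Generates σs := by
  obtain ⟨φ, hφ⟩ := exists_epi_basis k hg
  haveI := hφ
  haveI : PreservesColimitsOfSize.{u, u} (tensorRightF M) := Groth.L00.Tensor.preservesColimits_tensorRightF _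
  haveI : PreservesFiniteCoproducts (tensorRightF M) := inferInstance
  haveI hje := Groth.L03.BlowAcyc.jointly_epi_map (tensorRightF M) φ
  let σ := fun i => (tensorUnitLeft M).inv ≫ (tensorRightF M).map (φ i) ≫ e.hom
  haveI : Epi (Sigma.desc σ) := by
    have : Sigma.desc σ = Limits.Sigma.map (fun _ => (tensorUnitLeft M).inv) ≫
        Sigma.desc (fun i => (tensorRightF M).map (φ i)) ≫ e.hom :=
      Sigma.hom_ext _ _ fun i => by simp [σ]
    rw [this]
    haveI : IsIso (Limits.Sigma.map fun _ : Fin (Module.finrank k (Coh.HH X L 0)) => (tensorUnitLeft M).inv) :=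
      (Limits.Sigma.mapIso fun _ : Fin (Module.finrank k (Coh.HH X L 0)) => (tensorUnitLeft M).symm).isIso_hom
    exact @epi_comp _ _ _ _ _ _ inferInstance _ (@epi_comp _ _ _ _ _ _ hje _ inferInstance)
  exact ⟨List.ofFn σ, List.length_ofFn, Groth.L03.BlowAcyc.generates_of_epi hM σ⟩

/-- Mumford's surjectivity criterion, with vanishing only along the length of the family. -/
theorem surjective_mult' {N L : X.Modules} (hL : PicF.IsInvertible L) {σs : List (L ⟶ Coh.structureModule X)}
    (hσ : Generates σs) (e : CohB1.tensorMod N L ≅ Coh.structureModule X) (G : X.Modules)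
    (h : ∀ j, j + 2 ≤ σs.length →
      Subsingleton (Coh.HH X (CohB1.tensorMod (CohB1.tensorMod G N) (CohB1.tensorPow L (j + 2))) (j + 1))) :
    Function.Surjective ((toSheafify (Opens.grothendieckTopology X) (CohB1.tensorPre G N).presheaf).app (op ⊤)) := by
  intro y
  obtain ⟨z, rfl⟩ := (e0 (CohB1.tensorMod G N)).surjective y
  exact (Groth.L22.Reg.mem_prodH0 z).1
    (Groth.L03.BlowAcyc.mem_of_twists' hL hσ h (prodH0 G N) (fun σ _ w => Groth.L22.Reg.mu_mem_prodH0 e σ G w) z)

variable [IsProper (X ↘ Spec (CommRingCat.of k))]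

/-- Surjectivity of `H⁰(L^b) ⊗ H⁰(L) → H⁰(L^(b+1))`. -/
theorem surjective_pow_mult {L M : X.Modules} (hL : PicF.IsInvertible L) (hgg : Curv2.IsGloballyGenerated L)
    (hM : ClSub.IsInverseOf M L) (b : ℕ)
    (h₁ : ∀ q : ℕ, 1 ≤ q → q ≤ b → q < Module.finrank k (Coh.HH X L 0) →
      Subsingleton (Coh.HH X (CohB1.tensorPow L (b - q)) q))
    (h₂ : ∀ q : ℕ, b < q → q < Module.finrank k (Coh.HH X L 0) →
      Subsingleton (Coh.HH X (CohB1.tensorPow M (q - b)) q)) :
    Function.Surjective
      ((toSheafify (Opens.grothendieckTopology X) (CohB1.tensorPre (CohB1.tensorPow L b) L).presheaf).app (op ⊤)) := by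
  haveI := Groth.L21.RR.isNoetherian_of_proper (X := X) k
  haveI := Groth.L16.ProperFinite.finite_HH k (Groth.L18.Ample.isCoh_of_isInvertible hL) 0
  have hMi : PicF.IsInvertible M := Groth.L13.PointBlow.isInvertible_of_isInverseOf hL hM
  let e : CohB1.tensorMod L M ≅ Coh.structureModule X := tensorComm L M ≪≫ hM.some
  obtain ⟨σs, hlen, hσ⟩ := exists_generates k hMi e hgg
  refine surjective_mult' hMi hσ e _ fun j hj => ?_
  rw [hlen] at hj
  show Subsingleton (Coh.HH X (CohB1.tensorMod (CohB1.tensorPow L (b + 1)) (CohB1.tensorPow M (j + 2))) (j + 1))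
  rcases le_or_gt (j + 1) b with hle | hgt
  · obtain ⟨q⟩ := Groth.L03.BlowAcyc.nonempty_pow_tensor_inverse (A := CohB1.tensorPow L (b - (j + 1)))
      (M := M) (J' := L) ⟨e⟩ (j + 2)
    exact Groth.L22.Reg.subsingleton_iso (q.symm ≪≫ tensorIso (Groth.L00.Tensor.tensorPowAdd L _ _ ≪≫
      eqToIso (by congr 1; omega)) (Iso.refl _)) _ (h₁ (j + 1) (by omega) hle (by omega))
  · obtain ⟨q⟩ := Groth.L03.BlowAcyc.nonempty_pow_tensor_inverse (A := CohB1.tensorPow M (j + 1 - b))
      (M := L) (J' := M) hM (b + 1)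
    exact Groth.L22.Reg.subsingleton_iso (q.symm ≪≫ tensorIso (Groth.L00.Tensor.tensorPowAdd M _ _ ≪≫
      eqToIso (by congr 1; omega)) (Iso.refl _) ≪≫ tensorComm _ _) _ (h₂ (j + 1) hgt (by omega))

end Groth.L16.MulSurj
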