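import Groth.Agent.L16.MulSurj.Main
import Groth.Agent.L29.DCoh.Amplitude
import Groth.Agent.L21.FreeCurve.Vanish

/-!
# Multiplication of sections, from the first cohomology of twists of the kernel bundle
-/

set_option autoImplicit false
set_option linter.style.haveILetI false
set_option linter.unusedSectionVars false
set_option backward.isDefEq.respectTransparency false

universe u

open CategoryTheory CategoryTheory.Limits AlgebraicGeometry TopologicalSpace Opposite
open Groth.L00.Tensor (tensorMap tensorIso tensorComm tensorAssoc tensorUnitLeft tensorUnitRight tensorRightF)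
open Groth.L16.CohLinear (hmap hmap_comp overLin exact_hmap_delta)
open Groth.L21.RR (e0 e0_hmap oneSec app_homOfSection_one)
open Groth.L22.Reg (prodH0 prodRange tens_mem_prodRange tensorUnitLeft_tens)
open Groth.L18.GenLoc (tens)

noncomputable section

namespace Groth.L16.MulSurj

variable {X : Scheme.{u}}

/-- Tensoring on the right with a flat module is exact. -/
theorem shortExact_tensorRight {G : X.Modules} (hG : FlatMod.IsFlat G) {S : ShortComplex X.Modules}
    (hS : S.ShortExact) : (S.map (tensorRightF G)).ShortExact := by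
  refine (ShortComplex.shortExact_iff_of_iso ?_).2 (Groth.L16.FrameIso.shortExact_tensor_left hG S hS)
  refine ShortComplex.isoMk ((Groth.L00.Tensor.tensorFlipIso G).app S.X₁)
    ((Groth.L00.Tensor.tensorFlipIso G).app S.X₂) ((Groth.L00.Tensor.tensorFlipIso G).app S.X₃) ?_ ?_
  · exact (congrArg (_ ≫ ·) (Groth.L03.Euler.tensorBi_obj_map G S.f)).trans
      ((Groth.L00.Tensor.tensorFlipIso G).hom.naturality S.f).symm
  · exact (congrArg (_ ≫ ·) (Groth.L03.Euler.tensorBi_obj_map G S.g)).trans
      ((Groth.L00.Tensor.tensorFlipIso G).hom.naturality S.g).symm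

/-- The map on cohomology is additive in finite sums. -/
theorem hmap_finset_sum {M N : X.Modules} {ι : Type*} (s : Finset ι) (f : ι → (M ⟶ N)) (n : ℕ) (x : Coh.HH X M n) :
    hmap (∑ j ∈ s, f j) n x = ∑ j ∈ s, hmap (f j) n x := by
  change Sheaf.H.map (Groth.L16.CohLinear.tm (∑ j ∈ s, f j)) n x = _
  rw [Groth.L16.CohLinear.tm, Functor.map_sum]
  exact Groth.L16.CohLinear.hMap_sum s _ n x

/-- The sections coming from `φ ⊗ G` are products. -/
theorem tensorMap_mem {L G : X.Modules} (φ : Coh.structureModule X ⟶ L)
    (z : Coh.HH X ((tensorRightF G).obj (Coh.structureModule X)) 0) :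
    hmap ((tensorRightF G).map φ) 0 z ∈ prodH0 L G := by
  rw [Groth.L22.Reg.mem_prodH0]
  show e0 ((tensorRightF G).obj L) (hmap ((tensorRightF G).map φ) 0 z) ∈ prodRange L G
  rw [e0_hmap]
  let w := e0 ((tensorRightF G).obj (Coh.structureModule X)) z
  let t := (tensorUnitLeft G).hom.app ⊤ w
  have hw : w = tens (Coh.structureModule X) G ⊤ (oneSec X) t := by
    refine ((ConcreteCategory.isIso_iff_bijective _).1
      (Scheme.Modules.Hom.isIso_iff_isIso_app.1
        (inferInstance : IsIso (tensorUnitLeft G).hom) ⊤)).1 ?_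
    rw [tensorUnitLeft_tens]
    exact (one_smul _ t).symm
  show (tensorMap φ (𝟙 G)).app ⊤ w ∈ prodRange L G
  rw [hw, Groth.L18.Ample.tensorMap_tens]
  exact tens_mem_prodRange L G _ _

/-- Surjectivity of multiplication when the first cohomology of the twisted kernel vanishes. -/
theorem surjective_of_kernel {n : ℕ} {L G : X.Modules} (φ : Fin n → (Coh.structureModule X ⟶ L))
    [Epi (Sigma.desc φ)] (hG : FlatMod.IsFlat G)
    (h1 : Subsingleton (Coh.HH X (CohB1.tensorMod (kernel (Sigma.desc φ)) G) 1)) :
    Function.Surjective ((toSheafify (Opens.grothendieckTopology X) (CohB1.tensorPre L G).presheaf).app (op ⊤)) := by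
  intro y
  obtain ⟨z, rfl⟩ := (e0 (CohB1.tensorMod L G)).surjective y
  refine (Groth.L22.Reg.mem_prodH0 z).1 ?_
  let S := ShortComplex.mk (kernel.ι (Sigma.desc φ)) (Sigma.desc φ) (kernel.condition _)
  have hS : S.ShortExact :=
    { exact := S.exact_of_f_is_kernel (kernelIsKernel (Sigma.desc φ))
      mono_f := inferInstanceAs (Mono (kernel.ι _))
      epi_g := inferInstanceAs (Epi (Sigma.desc φ)) }
  obtain ⟨w, rfl⟩ := (exact_hmap_delta (shortExact_tensorRight hG hS) 0 z).1 (h1.elim _ _)
  obtain ⟨pr, hid, -⟩ := Groth.L03.ShStab.QuadricCoh.id_sigma (fun _ : Fin n => Coh.structureModule X)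
  haveI : PreservesColimitsOfSize.{u, u} (tensorRightF G) := Groth.L00.Tensor.preservesColimits_tensorRightF _
  haveI := preservesBinaryBiproducts_of_preservesBinaryCoproducts (tensorRightF G)
  haveI : (tensorRightF G).Additive := Functor.additive_of_preservesBinaryBiproducts _
  have hd : (tensorRightF G).map (Sigma.desc φ) =
      ∑ j, (tensorRightF G).map (pr j) ≫ (tensorRightF G).map (φ j) := by
    simp only [← Functor.map_comp, ← Functor.map_sum]
    congr 1
    conv_lhs => rw [← Category.id_comp (Sigma.desc φ), hid, Preadditive.sum_comp]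
    simp
  have key : ∀ w' : Coh.HH X ((tensorRightF G).obj (∐ fun _ : Fin n => Coh.structureModule X)) 0,
      hmap ((tensorRightF G).map (Sigma.desc φ)) 0 w' ∈ prodH0 L G := fun w' => by
    rw [hd, hmap_finset_sum]
    refine sum_mem fun j _ => ?_
    rw [hmap_comp]
    exact tensorMap_mem _ _
  exact key w

variable (k : Type u) [Field k] [X.Over (Spec (CommRingCat.of k))]

/-- A basis of sections indexes a finite type. -/
theorem finite_index [Nonempty X] {J : Type u} {L : X.Modules} [Module.Finite k (Coh.HH X L 0)]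
    (ev : (SheafOfModules.free J : X.Modules) ⟶ L) (hinj : Function.Injective (hmap ev 0)) : Finite J := by
  classical
  let c : J → Coh.HH X (SheafOfModules.free J : X.Modules) 0 := fun j =>
    hmap (SheafOfModules.ιFree j : Coh.structureModule X ⟶ _) 0 ((e0 _).symm (oneSec X))
  have hne : (e0 (Coh.structureModule X)).symm (oneSec X) ≠ 0 := fun h => by
    have h1 : (1 : Γ(X, ⊤)) = 0 := by
      have := congrArg (e0 (Coh.structureModule X)) h
      rwa [AddEquiv.apply_symm_apply, map_zero] at this
    obtain ⟨x⟩ := (inferInstance : Nonempty X)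
    haveI : Nonempty ((⊤ : X.Opens) : Scheme.{u}) := ⟨⟨x, trivial⟩⟩
    exact one_ne_zero h1
  have hli : LinearIndependent k (fun j => hmap ev 0 (c j)) := by
    rw [linearIndependent_iff']
    intro s a ha i hi
    have h0 : ∑ j ∈ s, a j • c j = 0 := by
      refine hinj ((map_sum (overLin k (hmap ev 0)) _ _).trans ?_)
      simp only [map_smul]
      exact ha.trans (map_zero _).symm
    let π : (SheafOfModules.free J : X.Modules) ⟶ Coh.structureModule X :=
      Cofan.IsColimit.desc (SheafOfModules.isColimitFreeCofan J) fun j => if j = i then 𝟙 _ else 0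
    have hπ : ∀ j, hmap π 0 (c j) = if j = i then (e0 _).symm (oneSec X) else 0 := fun j => by
      show hmap π 0 (hmap _ 0 _) = _
      rw [← hmap_comp, show (SheafOfModules.ιFree j : Coh.structureModule X ⟶ _) ≫ π = _ from
        Cofan.IsColimit.fac (SheafOfModules.isColimitFreeCofan J) _ j]
      split_ifs
      · exact Groth.L16.CohLinear.hmap_id _ _
      · exact Groth.L21.RR.hmap_zero _ _ _ _
    have h2 := congrArg (overLin k (hmap π 0)) h0
    simp only [map_sum, map_smul, map_zero] at h2
    have h3 : ∀ j, (overLin k (hmap π 0)) (c j) = if j = i then (e0 _).symm (oneSec X) else 0 := hπ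
    simp only [h3, smul_ite, smul_zero] at h2
    rw [Finset.sum_ite_eq' s i, if_pos hi] at h2
    exact (smul_eq_zero.1 h2).resolve_right hne
  exact hli.finite

include k in
/-- Surjectivity of multiplication of sections for the kernel bundle of the evaluation map. -/
theorem surjective_evKernel [IsProper (X ↘ Spec (CommRingCat.of k))] {J : Type u} {L : X.Modules}
    (hL : PicF.IsInvertible L) (ev : (SheafOfModules.free J : X.Modules) ⟶ L) [Epi ev]
    (hinj : Function.Injective (hmap ev 0)) (i h : ℕ)
    (hvan : Subsingleton (Coh.HH X (CohB1.tensorMod (CohB1.tensorPow (kernel ev) (i + 1)) (CohB1.tensorPow L h)) 1)) :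
    Function.Surjective ((toSheafify (Opens.grothendieckTopology X)
      (CohB1.tensorPre L (CohB1.tensorMod (CohB1.tensorPow (kernel ev) i) (CohB1.tensorPow L h))).presheaf).app
        (op ⊤)) := by
  rcases isEmpty_or_nonempty X with hX | hX
  · intro y
    refine ⟨0, ?_⟩
    let T := CohB1.tensorMod L (CohB1.tensorMod (CohB1.tensorPow (kernel ev) i) (CohB1.tensorPow L h))
    have hy : (Groth.L16.homOfSection T y) = Groth.L16.homOfSection T 0 :=
      Groth.L21.Mod.hom_ext_stalk fun x => hX.elim x
    have := congrArg (fun q => q.app ⊤ (oneSec X)) hy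
    simp only [app_homOfSection_one] at this
    exact (map_zero _).trans this.symm
  haveI := Groth.L21.RR.isNoetherian_of_proper (X := X) k
  haveI := Groth.L16.ProperFinite.finite_HH k (Groth.L18.Ample.isCoh_of_isInvertible hL) 0
  haveI := finite_index k ev hinj
  haveI := Fintype.ofFinite J
  let σ := Fintype.equivFin J
  let e : (∐ fun _ : Fin (Fintype.card J) => Coh.structureModule X) ≅ (SheafOfModules.free J : X.Modules) :=
    Sigma.whiskerEquiv (f := fun _ : Fin (Fintype.card J) => Coh.structureModule X)
      (g := fun _ : J => Coh.structureModule X) σ.symm (fun _ => Iso.refl _)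
  let φ : Fin (Fintype.card J) → (Coh.structureModule X ⟶ L) := fun j =>
    Sigma.ι (fun _ : Fin (Fintype.card J) => Coh.structureModule X) j ≫ e.hom ≫ ev
  have hφ : Sigma.desc φ = e.hom ≫ ev := Sigma.hom_ext _ _ fun j => by simp [φ]
  haveI hepi : Epi (Sigma.desc φ) := by rw [hφ]; infer_instance
  let eK : kernel (Sigma.desc φ) ≅ kernel ev := kernel.mapIso _ _ e (Iso.refl L) (by rw [hφ]; simp)
  have hfree : FlatMod.IsFinLocFree (kernel (Sigma.desc φ)) :=
    Groth.L29.DC.isFinLocFree_kernel_of_epi _ (Groth.L29.DC.isFinLocFree_freeMod X _)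
      (Groth.L16.Existence.isFinLocFree_of_isInvertible hL)
  have hG : FlatMod.IsFinLocFree (CohB1.tensorMod (CohB1.tensorPow (kernel ev) i) (CohB1.tensorPow L h)) :=
    Groth.L29.DC.isFinLocFree_tensor (Groth.L21.FreeCurve.isFinLocFree_tensorPow
      (Groth.L29.LocFree.of_iso eK hfree) i)
      (Groth.L16.Existence.isFinLocFree_of_isInvertible (Groth.L18.Ample.isInvertible_tensorPow hL h))
  refine surjective_of_kernel φ (Groth.L29.DC.isFlat_of_isFinLocFree hG) ?_
  exact Groth.L22.Reg.subsingleton_iso
    ((tensorIso eK (Iso.refl _) ≪≫ (tensorAssoc _ _ _).symm ≪≫ tensorIso (tensorComm _ _) (Iso.refl _)).symm) _ hvan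

end Groth.L16.MulSurj
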