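import Groth.Agent.L16.MulSurj.Kernel
import Groth.Agent.L21.RR.Twist
import Groth.Agent.L29.DCoh.RHomQCoh
import Groth.Agent.L18.RelProjCounit

/-!
# Multiplication of sections, lifted from a divisor
-/

set_option autoImplicit false
set_option linter.style.haveILetI false
set_option linter.unusedSectionVars false
set_option backward.isDefEq.respectTransparency false

universe u

open CategoryTheory CategoryTheory.Limits AlgebraicGeometry TopologicalSpace Opposite MonoidalCategory
open Groth.L00.Tensor (tensorMap tensorMap_id tensorMap_comp tensorIso tensorComm tensorAssoc tensorUnitLeft tensorUnitRight tensorRightF pre PX shf counitIso)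
open Groth.L16.CohLinear (hmap hmap_comp hmap_id exact_hmap_hmap exact_hmap_delta)
open Groth.L21.RR (e0 e0_hmap oneSec app_homOfSection_one)
open Groth.L22.Reg (prodH0 prodRange tens_mem_prodRange tensorUnitRight_natural)
open Groth.L18.GenLoc (tens)

noncomputable section

namespace Groth.L16.MulSurj

variable {X : Scheme.{u}}

theorem isIso_tensorMap {A A' B B' : X.Modules} (f : A ⟶ A') (g : B ⟶ B') [IsIso f] [IsIso g] :
    IsIso (tensorMap f g) :=
  (tensorIso (asIso f) (asIso g)).isIso_hom

theorem shortExact_tensorLeft {F : X.Modules} (hF : FlatMod.IsFlat F) {S : ShortComplex X.Modules}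
    (hS : S.ShortExact) (h : tensorMap (𝟙 F) S.f ≫ tensorMap (𝟙 F) S.g = 0) :
    (ShortComplex.mk (tensorMap (𝟙 F) S.f) (tensorMap (𝟙 F) S.g) h).ShortExact :=
  (ShortComplex.shortExact_iff_of_iso (ShortComplex.isoMk (Iso.refl _) (Iso.refl _) (Iso.refl _)
    (by simp) (by simp))).1
    (Groth.L16.FrameIso.shortExact_tensor_left hF S hS)

theorem tensor_zero_right (F : X.Modules) {A B C : X.Modules} (f : A ⟶ B) (g : B ⟶ C) (w : f ≫ g = 0) :
    tensorMap (𝟙 F) f ≫ tensorMap (𝟙 F) g = 0 := by
  rw [← tensorMap_comp, Category.comp_id, w]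
  exact (Groth.L03.Euler.tensorBi_obj_map F (0 : A ⟶ C)).symm.trans (((DCoh.tensorBi (X := X)).obj F).map_zero A C)

theorem shf_unitors : (shf X).map (λ_ (𝟙_ (PX X))).hom = (shf X).map (ρ_ (𝟙_ (PX X))).hom := by
  rw [MonoidalCategory.unitors_equal]

theorem unitLeft_hom : (tensorUnitLeft (Coh.structureModule X)).hom =
    (shf X).map (λ_ (pre (Coh.structureModule X))).hom ≫ (counitIso (Coh.structureModule X)).hom := rfl

theorem unitRight_hom : (tensorUnitRight (Coh.structureModule X)).hom =
    (shf X).map (ρ_ (pre (Coh.structureModule X))).hom ≫ (counitIso (Coh.structureModule X)).hom := rfl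

/-- The two unit constraints of the structure sheaf agree. -/
theorem unitLeft_eq_unitRight :
    (tensorUnitLeft (Coh.structureModule X)).hom = (tensorUnitRight (Coh.structureModule X)).hom :=
  unitLeft_hom.trans
    ((congrArg (fun t => t ≫ (counitIso (Coh.structureModule X)).hom) shf_unitors).trans unitRight_hom.symm)

variable (I : X.IdealSheafData)

/-- The ideal kills the quotient. -/
theorem tensorMap_idealModι_quot :
    tensorMap (ClSub.idealModι I) (𝟙 (ClSub.quotMod I)) = 0 := by
  haveI := (Groth.L21.RR.shortExact_idealSeq I).epi_g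
  haveI : Epi (tensorMap (𝟙 (ClSub.idealMod I)) (ClSub.toSubscheme I)) := by
    haveI := Groth.L21.RR.epi_toSubscheme I
    haveI : (Groth.L00.Tensor.tensorLeftF (ClSub.idealMod I)).PreservesEpimorphisms :=
      Functor.preservesEpimorphisms_of_adjunction (Groth.L16.HomSh.tensorHomAdj (ClSub.idealMod I))
    exact (Groth.L00.Tensor.tensorLeftF (ClSub.idealMod I)).map_epi (ClSub.toSubscheme I)
  rw [← cancel_epi (tensorMap (𝟙 (ClSub.idealMod I)) (ClSub.toSubscheme I)), comp_zero, ← tensorMap_comp,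
    Category.id_comp, Category.comp_id]
  have h : tensorMap (ClSub.idealModι I) (ClSub.toSubscheme I) =
      tensorMap (ClSub.idealModι I) (𝟙 (Coh.structureModule X)) ≫
        tensorMap (𝟙 (Coh.structureModule X)) (ClSub.toSubscheme I) := by
    rw [← tensorMap_comp, Category.id_comp, Category.comp_id]
  rw [h, ← cancel_mono (tensorUnitLeft (ClSub.quotMod I)).hom, Category.assoc,
    Groth.L29.DC.RHom.tensorUnitLeft_natural, unitLeft_eq_unitRight, ← Category.assoc,
    tensorUnitRight_natural, Category.assoc]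
  show _ ≫ (Groth.L21.RR.idealSeq I).f ≫ (Groth.L21.RR.idealSeq I).g = _
  rw [(Groth.L21.RR.idealSeq I).zero, comp_zero, zero_comp]

variable {I}

/-- Reduction modulo the ideal is injective after tensoring with a module killed by it. -/
theorem mono_tensorMap_toSubscheme {M : X.Modules} (h : tensorMap (ClSub.idealModι I) (𝟙 M) = 0) :
    Mono (tensorMap (ClSub.toSubscheme I) (𝟙 M)) := by
  have hS := Groth.L21.RR.shortExact_idealSeq I
  haveI := hS.epi_g
  haveI : PreservesColimitsOfSize.{u, u} (tensorRightF M) := Groth.L00.Tensor.preservesColimits_tensorRightF _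
  haveI : PreservesFiniteColimits (tensorRightF M) := PreservesColimitsOfSize.preservesFiniteColimits _
  exact (hS.exact.map_of_epi_of_preservesCokernel (tensorRightF M) hS.epi_g inferInstance).mono_g h

/-- Products map onto products. -/
theorem prodRange_le_image {A A' B B' : X.Modules} (f : A ⟶ A') (g : B ⟶ B')
    (hf : Function.Surjective (f.app ⊤)) (hg : Function.Surjective (g.app ⊤))
    (a : Γ(CohB1.tensorMod A' B', ⊤)) (ha : a ∈ prodRange A' B') :
    ∃ b ∈ prodRange A B, (tensorMap f g).app ⊤ b = a := by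
  obtain ⟨t, rfl⟩ := ha
  induction (t : TensorProduct (X.sheaf.obj.obj (op ⊤)) ((pre A').obj (op ⊤)) ((pre B').obj (op ⊤)))
    using TensorProduct.induction_on with
  | zero => exact ⟨0, (prodRange A B).zero_mem, (map_zero _).trans (map_zero _).symm⟩
  | tmul x y =>
    obtain ⟨x', hx⟩ := hf x
    obtain ⟨y', hy⟩ := hg y
    refine ⟨tens A B ⊤ x' y', tens_mem_prodRange A B x' y', ?_⟩
    rw [Groth.L18.Ample.tensorMap_tens, hx, hy]
    rfl
  | add x y hx hy =>
    obtain ⟨b₁, h₁, e₁⟩ := hx
    obtain ⟨b₂, h₂, e₂⟩ := hy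
    refine ⟨b₁ + b₂, (prodRange A B).add_mem h₁ h₂, ?_⟩
    rw [map_add, e₁, e₂]
    exact (map_add _ _ _).symm

/-- The sections coming from `E ⊗ φ` are products. -/
theorem tensorMap_mem_left {E L : X.Modules} (φ : Coh.structureModule X ⟶ L)
    (z : Coh.HH X (CohB1.tensorMod E (Coh.structureModule X)) 0) :
    hmap (tensorMap (𝟙 E) φ) 0 z ∈ prodH0 E L := by
  obtain ⟨ψ, hψ⟩ := Groth.L21.RR.exists_hom_of_hh0 (hmap (tensorUnitRight E).hom 0 z)
  have hz : e0 (CohB1.tensorMod E (Coh.structureModule X)) z =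
      (tensorMap ψ (𝟙 _)).app ⊤ (tens (Coh.structureModule X) (Coh.structureModule X) ⊤ (oneSec X) (oneSec X)) := by
    refine ((ConcreteCategory.isIso_iff_bijective _).1
      (Scheme.Modules.Hom.isIso_iff_isIso_app.1
        (inferInstance : IsIso (tensorUnitRight E).hom) ⊤)).1 ?_
    have h1 : (tensorUnitLeft (Coh.structureModule X)).hom.app ⊤
        (tens (Coh.structureModule X) (Coh.structureModule X) ⊤ (oneSec X) (oneSec X)) = oneSec X :=
      (Groth.L22.Reg.tensorUnitLeft_tens _ _ _ _).trans (one_smul _ _)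
    rw [← e0_hmap]
    refine hψ.symm.trans (Eq.trans ?_ (congrArg
      (fun q => q.app ⊤ (tens (Coh.structureModule X) (Coh.structureModule X) ⊤ (oneSec X) (oneSec X)))
      (tensorUnitRight_natural ψ)).symm)
    show _ = ψ.app ⊤ ((tensorUnitRight (Coh.structureModule X)).hom.app ⊤ _)
    rw [← unitLeft_eq_unitRight, h1]
  rw [Groth.L22.Reg.mem_prodH0, e0_hmap, hz, Groth.L18.Ample.tensorMap_tens, Groth.L18.Ample.tensorMap_tens]
  exact tens_mem_prodRange E L _ _

/-- Lifting surjectivity of multiplication from a divisor. -/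
theorem surjective_of_divisor {E L : X.Modules} (hE : FlatMod.IsFlat E) (hL : FlatMod.IsFlat L)
    (c : CohB1.tensorMod L (ClSub.idealMod I) ≅ Coh.structureModule X)
    (hO : Subsingleton (Coh.HH X (Coh.structureModule X) 1))
    (h1 : Subsingleton (Coh.HH X (CohB1.tensorMod E (ClSub.idealMod I)) 1))
    (hD : Function.Surjective ((toSheafify (Opens.grothendieckTopology X)
      (CohB1.tensorPre (CohB1.tensorMod E (ClSub.quotMod I)) (CohB1.tensorMod L (ClSub.quotMod I))).presheaf).app
        (op ⊤))) :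
    Function.Surjective ((toSheafify (Opens.grothendieckTopology X) (CohB1.tensorPre E L).presheaf).app (op ⊤)) := by
  have hS := Groth.L21.RR.shortExact_idealSeq I
  let Q := ClSub.quotMod I
  let q := ClSub.toSubscheme I
  let qE : E ⟶ CohB1.tensorMod E Q := (tensorUnitRight E).inv ≫ tensorMap (𝟙 E) q
  let qL : L ⟶ CohB1.tensorMod L Q := (tensorUnitRight L).inv ≫ tensorMap (𝟙 L) q
  have hsurj : ∀ {F : X.Modules}, FlatMod.IsFlat F →
      Subsingleton (Coh.HH X (CohB1.tensorMod F (ClSub.idealMod I)) 1) →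
      Function.Surjective (((tensorUnitRight F).inv ≫ tensorMap (𝟙 F) q).app ⊤) := by
    intro F hF hF1 a
    obtain ⟨z, rfl⟩ := (e0 _).surjective a
    obtain ⟨w, rfl⟩ := (exact_hmap_delta (shortExact_tensorLeft hF hS
      (tensor_zero_right F _ _ (Groth.L21.RR.idealSeq I).zero)) 0 z).1 (hF1.elim _ _)
    refine ⟨e0 F (hmap (tensorUnitRight F).hom 0 w), ?_⟩
    rw [← e0_hmap, ← hmap_comp, Iso.hom_inv_id_assoc]
    rfl
  have hL1 : Subsingleton (Coh.HH X (CohB1.tensorMod L (ClSub.idealMod I)) 1) :=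
    Groth.L22.Reg.subsingleton_iso c.symm 1 hO
  intro y
  obtain ⟨z, rfl⟩ := (e0 (CohB1.tensorMod E L)).surjective y
  refine (Groth.L22.Reg.mem_prodH0 z).1 ?_
  obtain ⟨b, hb, hbe⟩ := prodRange_le_image qE qL (hsurj hE h1) (hsurj hL hL1)
    ((tensorMap qE qL).app ⊤ (e0 _ z)) (hD _)
  let z₂ := (e0 (CohB1.tensorMod E L)).symm b
  have hz₂ : z₂ ∈ prodH0 E L := by
    rw [Groth.L22.Reg.mem_prodH0, AddEquiv.apply_symm_apply]; exact hb
  suffices z - z₂ ∈ prodH0 E L by simpa using add_mem this hz₂
  -- the difference vanishes on the divisor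
  have hkill : tensorMap (ClSub.idealModι I) (𝟙 (CohB1.tensorMod L Q)) = 0 := by
    have hQL : tensorMap (ClSub.idealModι I) (𝟙 (CohB1.tensorMod Q L)) = 0 := by
      have h := Groth.L29.DC.Assoc.assoc_natural (ClSub.idealModι I) (𝟙 Q) (𝟙 L)
      rw [tensorMap_idealModι_quot, tensorMap_id] at h
      have h0 : tensorMap (0 : CohB1.tensorMod (ClSub.idealMod I) Q ⟶ CohB1.tensorMod (Coh.structureModule X) Q)
          (𝟙 L) = 0 := (tensorRightF L).map_zero _ _
      rw [h0, zero_comp] at h
      rwa [eq_comm, Preadditive.IsIso.comp_left_eq_zero] at h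
    haveI := isIso_tensorMap (𝟙 (Coh.structureModule X)) (tensorComm L Q).hom
    rw [← cancel_mono (tensorMap (𝟙 (Coh.structureModule X)) (tensorComm L Q).hom), zero_comp,
      ← tensorMap_comp, Category.id_comp, Category.comp_id]
    have h2 : tensorMap (ClSub.idealModι I) (tensorComm L Q).hom =
        tensorMap (𝟙 (ClSub.idealMod I)) (tensorComm L Q).hom ≫
          tensorMap (ClSub.idealModι I) (𝟙 (CohB1.tensorMod Q L)) := by
      rw [← tensorMap_comp, Category.id_comp, Category.comp_id]
    rw [h2, hQL, comp_zero]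
  haveI : Mono (tensorMap qE (𝟙 (CohB1.tensorMod L Q))) := by
    haveI := mono_tensorMap_toSubscheme hkill
    haveI : Mono (tensorMap (𝟙 E) (tensorMap q (𝟙 (CohB1.tensorMod L Q)))) := by
      let T := ShortComplex.mk (tensorMap q (𝟙 (CohB1.tensorMod L Q))) (cokernel.π _) (cokernel.condition _)
      have hT : T.ShortExact := { exact := ShortComplex.exact_cokernel _ }
      exact (shortExact_tensorLeft hE hT (tensor_zero_right E _ _ T.zero)).mono_f
    haveI : Mono (tensorMap (tensorMap (𝟙 E) q) (𝟙 (CohB1.tensorMod L Q))) :=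
      mono_of_mono_fac (Groth.L29.DC.Assoc.assoc_natural (𝟙 E) q (𝟙 (CohB1.tensorMod L Q)))
    have he : tensorMap qE (𝟙 (CohB1.tensorMod L Q)) =
        tensorMap (tensorUnitRight E).inv (𝟙 (CohB1.tensorMod L Q)) ≫
          tensorMap (tensorMap (𝟙 E) q) (𝟙 (CohB1.tensorMod L Q)) := by
      rw [← tensorMap_comp, Category.id_comp]
    haveI := isIso_tensorMap (tensorUnitRight E).inv (𝟙 (CohB1.tensorMod L Q))
    rw [he]
    exact mono_comp _ _
  have hqL : hmap (tensorMap (𝟙 E) qL) 0 (z - z₂) = 0 := by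
    apply Groth.L21.RR.injective_hmap_zero (tensorMap qE (𝟙 (CohB1.tensorMod L Q)))
    rw [map_zero, ← hmap_comp, ← tensorMap_comp, Category.id_comp, Category.comp_id, map_sub, sub_eq_zero]
    apply (e0 _).injective
    rw [e0_hmap, e0_hmap, AddEquiv.apply_symm_apply, hbe]
  -- hence is divisible by the section cutting out the divisor
  have hSL := shortExact_tensorLeft hL hS (tensor_zero_right L _ _ (Groth.L21.RR.idealSeq I).zero)
  have hSE := shortExact_tensorLeft hE hSL (tensor_zero_right E _ _ (tensor_zero_right L _ _ (Groth.L21.RR.idealSeq I).zero))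
  have hz : hmap (tensorMap (𝟙 E) (tensorMap (𝟙 L) q)) 0
      (hmap (tensorMap (𝟙 E) (tensorUnitRight L).inv) 0 (z - z₂)) = 0 := by
    rw [← hmap_comp, ← tensorMap_comp, Category.id_comp]
    exact hqL
  let φ : Coh.structureModule X ⟶ L :=
    c.inv ≫ tensorMap (𝟙 L) (ClSub.idealModι I) ≫ (tensorUnitRight L).hom
  have key : ∀ w : Coh.HH X (CohB1.tensorMod E (CohB1.tensorMod L (ClSub.idealMod I))) 0,
      hmap (tensorMap (𝟙 E) (tensorMap (𝟙 L) (ClSub.idealModι I))) 0 w =
        hmap (tensorMap (𝟙 E) (tensorUnitRight L).inv) 0 (z - z₂) → z - z₂ ∈ prodH0 E L := fun w hw => by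
    have hφ : z - z₂ = hmap (tensorMap (𝟙 E) φ) 0 (hmap (tensorMap (𝟙 E) c.hom) 0 w) := by
      rw [← hmap_comp, ← tensorMap_comp, Category.id_comp, Iso.hom_inv_id_assoc]
      have h1 := congrArg (hmap (tensorMap (𝟙 E) (tensorUnitRight L).hom) 0) hw
      rw [← hmap_comp, ← hmap_comp, ← tensorMap_comp, ← tensorMap_comp, Category.id_comp, Iso.inv_hom_id,
        tensorMap_id, hmap_id] at h1
      exact h1.symm
    rw [hφ]
    exact tensorMap_mem_left φ _
  obtain ⟨w, hw⟩ := (exact_hmap_hmap hSE 0 _).1 hz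
  exact key w hw

end Groth.L16.MulSurj
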